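import Cfsg.Agent.H15.TE.W
import Cfsg.Agent.H15.E6C
import Cfsg.Agent.S1066

/-! `²E₆(2)` is generated by ten transpositions satisfying the `Y₃₃₃` relations. Data: tools/h15/te/gen_b.py. -/

set_option autoImplicit false
set_option maxRecDepth 100000

namespace H15.TE
open H16 (nth evA ltAll allL Rels gen mem_gen gen_le)
open H15.XM H15.E6 Cfsg Cfsg.Lie H14

def DW : List ℕ := [nat_lit 9, nat_lit 2, nat_lit 10, nat_lit 14, nat_lit 8, nat_lit 0, nat_lit 1, nat_lit 9, nat_lit 3, nat_lit 10, nat_lit 1, nat_lit 9, nat_lit 8, nat_lit 5, nat_lit 2, nat_lit 1, nat_lit 0, nat_lit 1, nat_lit 2, nat_lit 5, nat_lit 8, nat_lit 9, nat_lit 1, nat_lit 10, nat_lit 3, nat_lit 9, nat_lit 1, nat_lit 0, nat_lit 8, nat_lit 14, nat_lit 10, nat_lit 2, nat_lit 9]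
def cd : ℕ × ℕ := (nat_lit 0xa000c0000000000000fc5cf9031b8015c018dbb016e4047e0057006144801400012000000000b563bb0012d4011010d60f04080000c0000000082200200000800000002148406000010000000080a002000008000000020180050000100000000808000c0000000000001c258000940005000000d72c694176740e60163bf4cff9030b8011c01ab9f82fe4047600470068c1f80000000e000000009f6291401674040016d44800100050000040000ae037a4044e0057806c20200180002000040000804005000140000800020080520002000000000008000c000080000000001000300005000000008020028000080000000000000100000000000005c71870e1094811290d500222034000502050005c65d3289094819030d67c07b9111b8017c09a2a7133c40d6e01570167aedab210379d0b08078b400460828600104004028c0db9015f8005c0596a30376404fe007500ed808014000520000000001d61be003ad4031810d44801100040000040000ae03dac046e004780658030060000740008008000a01400000800100000018031000410002000004010380002c0000000000000d0000700000000008002c00000000000000100070000400000000e703fe7a46e2c5760790806000d1040780120400c75972c001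4111290d6cdb9a57158d43185da9bf62694336643a600676944ff90b4ba011c05b8ba6a6941dc5025601ab69e0bf9005d8011c05b0a742fe406fb004700c42ed05a50142f00580435bb62894456740420b64a9c0df9011b0015a04a30000030001100018020000004a00022000400000000098000440028020071845c0c425486cf4751c61d7229094918230d40000804600012334840a703ee4016e001f0b6c69c0fd901bb801f41b91bb626d44507405f092d07186540142d015801b51c61960030b403781ed69c0ffb011b0010a058500000040011c003800029c0ff9011b84f5dfd0f1f61ed00565405001056758a950053d015404832302784046e004600620ed8a24004150054053180001e0000c00030020af182550159500440592, nat_lit 0x20020000000000000025975c08425004404351c2387005094011010d642800000400000000002b226d405674046016021204080000000000000000000000000000000020c800200008000000000000000000000000000003000100004000000008000000000080000000050040000400000000008b19fe4046e0257006ed3d825c00525044404353ca197001014051010d412840000002000000002303ef4046e00570060208010a00100000000001d61d2001294015010d402004100020000000000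040100000400020000200801100000000400008000000000080000000200000d00001000000000000000000000000000000000000000000000008b72e9601674846016bc20220090a0010210000f366094854740462167cf18e3c10475004424355a61d70000b4111010d7980d790d1b8034c01be01004000042000000000f3861c00421014404353c219f007194033010d44200080040200000000b36260405e3404681ecc08810200102000000001d61b3801490011014d400000000000000000000080104000800000000001002100020000000800300028000280000000003000100004000000000020020000000000000000800500003000000001c6d972b1094a91210d40008001180000802000bb7069604674816016269c2ff9513b821dc09dca71afe4006e0217016a071925c0812d00440435a707fe4144c01c700260718e5c01401004404351c63970031c4071012d69c0bf90119b015c0180a703724046e005d8269c7187da0042d0040053500001840001000000200000019000020004000000000500000400100002ed89a5c1d9d093827dcbb62694a5274142202300000002428002308a001c6197045114053092d471865c10c3500cc2435a703fe4046a004e82406ed89a50119b011c0580bb6269405e7004480c8071865c005ac005004350000000000d00020000071865c0042538852a35a3227a4056f00470064ecd8ded0159c011801a6004010000090000000029d8df9015b801180193006017000094001000028d8da9011bd011801a6)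
noncomputable def TC : List (ℕ × ℕ) := [nth (0, 0) SC 8, nth (0, 0) SC 0, nth (0, 0) SC 1, nth (0, 0) SC 2, nth (0, 0) SC 3, nth (0, 0) SC 4, nth (0, 0) SC 6, nth (0, 0) SC 5, nth (0, 0) SC 7, cd, nth (0, 0) CG 8, nth (0, 0) CG 1, nth (0, 0) CG 9, nth (0, 0) CG 11, nth (0, 0) CG 10, nth (0, 0) CG 2, nth (0, 0) CG 3, nth (0, 0) CG 5, nth (0, 0) CG 6, nth (0, 0) CG 13, nth (0, 0) CG 14, nth (0, 0) CG 0, nth (0, 0) CG 4, nth (0, 0) CG 7, nth (0, 0) CG 12, nth (0, 0) CG 15]
def GW : List (List ℕ) := [[nat_lit 6, nat_lit 5, nat_lit 4, nat_lit 3, nat_lit 7, nat_lit 5, nat_lit 6, nat_lit 2, nat_lit 3, nat_lit 4, nat_lit 5, nat_lit 1, nat_lit 2, nat_lit 3, nat_lit 4, nat_lit 0, nat_lit 1, nat_lit 2, nat_lit 3, nat_lit 7, nat_lit 8, nat_lit 9, nat_lit 3, nat_lit 7, nat_lit 8, nat_lit 4, nat_lit 3, nat_lit 7, nat_lit 3, nat_lit 4, nat_lit 5, nat_lit 2, nat_lit 3, nat_lit 4, nat_lit 1, nat_lit 2, nat_lit 3, nat_lit 7, nat_lit 8, nat_lit 7, nat_lit 4, nat_lit 5, nat_lit 2,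 nat_lit 3, nat_lit 4, nat_lit 1, nat_lit 2, nat_lit 3, nat_lit 7, nat_lit 6, nat_lit 5, nat_lit 4, nat_lit 0, nat_lit 1, nat_lit 2, nat_lit 3, nat_lit 2, nat_lit 1, nat_lit 0, nat_lit 4, nat_lit 5, nat_lit 6, nat_lit 7, nat_lit 3, nat_lit 2, nat_lit 1, nat_lit 4, nat_lit 3, nat_lit 2, nat_lit 5, nat_lit 4, nat_lit 7, nat_lit 8, nat_lit 7, nat_lit 3, nat_lit 2, nat_lit 1, nat_lit 4, nat_lit 3, nat_lit 2, nat_lit 5, nat_lit 4, nat_lit 3, nat_lit 7, nat_lit 3, nat_lit 4, nat_lit 8, nat_lit 7, nat_lit 3, nat_lit 9, nat_lit 8, nat_lit 7, nat_lit 3, nat_lit 2, nat_lit 1, nat_lit 0, nat_lit 4, nat_lit 3, nat_lit 2, nat_lit 1, nat_lit 5, nat_lit 4, nat_lit 3, nat_lit 2, nat_lit 6, nat_lit 5, nat_lit 7, nat_lit 3, nat_lit 4, nat_lit 5, nat_lit 6],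
  [nat_lit 3, nat_lit 10, nat_lit 2, nat_lit 0, nat_lit 1, nat_lit 10, nat_lit 1, nat_lit 2, nat_lit 3, nat_lit 2, nat_lit 1, nat_lit 10, nat_lit 1, nat_lit 0, nat_lit 2, nat_lit 10, nat_lit 3],
  [nat_lit 6, nat_lit 2, nat_lit 1, nat_lit 11, nat_lit 1, nat_lit 2, nat_lit 3, nat_lit 2, nat_lit 1, nat_lit 11, nat_lit 1, nat_lit 2, nat_lit 6],
  [nat_lit 7, nat_lit 11, nat_lit 7, nat_lit 1, nat_lit 11, nat_lit 3, nat_lit 11, nat_lit 1, nat_lit 7, nat_lit 11, nat_lit 7, nat_lit 0, nat_lit 11, nat_lit 0, nat_lit 1, nat_lit 11, nat_lit 3, nat_lit 11, nat_lit 1, nat_lit 0, nat_lit 11, nat_lit 0],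
  [nat_lit 2, nat_lit 13, nat_lit 3, nat_lit 2, nat_lit 3, nat_lit 2, nat_lit 3, nat_lit 13, nat_lit 2, nat_lit 1, nat_lit 11, nat_lit 12, nat_lit 2, nat_lit 3, nat_lit 1, nat_lit 2, nat_lit 3, nat_lit 2, nat_lit 1, nat_lit 3, nat_lit 2, nat_lit 12, nat_lit 11, nat_lit 1],
  [nat_lit 8, nat_lit 0, nat_lit 10, nat_lit 9, nat_lit 0, nat_lit 14, nat_lit 4, nat_lit 3, nat_lit 4, nat_lit 14, nat_lit 0, nat_lit 9, nat_lit 10, nat_lit 0, nat_lit 8, nat_lit 2, nat_lit 12, nat_lit 3, nat_lit 10, nat_lit 2, nat_lit 3, nat_lit 2, nat_lit 10, nat_lit 3, nat_lit 12, nat_lit 2],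
  [nat_lit 2, nat_lit 15, nat_lit 3, nat_lit 10, nat_lit 2, nat_lit 3, nat_lit 2, nat_lit 10, nat_lit 3, nat_lit 15, nat_lit 2, nat_lit 7, nat_lit 15, nat_lit 2, nat_lit 12, nat_lit 3, nat_lit 7, nat_lit 3, nat_lit 7, nat_lit 3, nat_lit 12, nat_lit 2, nat_lit 15, nat_lit 7],
  [nat_lit 1, nat_lit 13, nat_lit 11, nat_lit 5, nat_lit 15, nat_lit 11, nat_lit 3, nat_lit 11, nat_lit 15, nat_lit 5, nat_lit 11, nat_lit 13, nat_lit 1, nat_lit 1, nat_lit 11, nat_lit 0, nat_lit 11, nat_lit 2, nat_lit 11, nat_lit 3, nat_lit 11, nat_lit 2, nat_lit 11, nat_lit 0, nat_lit 11, nat_lit 1],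
  [nat_lit 2, nat_lit 17, nat_lit 3, nat_lit 2, nat_lit 3, nat_lit 2, nat_lit 3, nat_lit 17, nat_lit 2, nat_lit 5, nat_lit 14, nat_lit 10, nat_lit 5, nat_lit 12, nat_lit 10, nat_lit 3, nat_lit 10, nat_lit 12, nat_lit 5, nat_lit 10, nat_lit 14, nat_lit 5],
  [nat_lit 1, nat_lit 16, nat_lit 15, nat_lit 14, nat_lit 7, nat_lit 4, nat_lit 3, nat_lit 4, nat_lit 7, nat_lit 14, nat_lit 15, nat_lit 16, nat_lit 1, nat_lit 18, nat_lit 9, nat_lit 18, nat_lit 7, nat_lit 5, nat_lit 4, nat_lit 3, nat_lit 4, nat_lit 5, nat_lit 7, nat_lit 18, nat_lit 9, nat_lit 18],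
  [nat_lit 7, nat_lit 19, nat_lit 3, nat_lit 7, nat_lit 3, nat_lit 7, nat_lit 3, nat_lit 19, nat_lit 7, nat_lit 17, nat_lit 6, nat_lit 1, nat_lit 14, nat_lit 7, nat_lit 2, nat_lit 3, nat_lit 2, nat_lit 7, nat_lit 14, nat_lit 1, nat_lit 6, nat_lit 17],
  [nat_lit 3],
  [nat_lit 15, nat_lit 16],
  [nat_lit 17, nat_lit 18],
  [nat_lit 14, nat_lit 13],
  [nat_lit 19, nat_lit 20]]

theorem dc : ltAll 16 DW + ne2 (ev 78 (msk 78 78) e1 CG DW) cd = 0 := by decide +kernel
theorem rc : allL (fun W => ltAll 10 W + ne2 (ev 78 (msk 78 78) e1 TC W) e1) RF = true := by decide +kernel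
theorem gc : ∀ i < 16, ltAll (10 + i) (nth [] GW i) +
    ne2 (ev 78 (msk 78 78) e1 TC (nth [] GW i)) (nth (0, 0) TC (10 + i)) = 0 := by decide +kernel

variable {K : Type*} [Field K]

/-- ten transpositions, followed by the sixteen standard generators -/
noncomputable def T (w : K) : ℕ → twistedE6 K 2 := H16.tup [s9 w 8, s9 w 0, s9 w 1, s9 w 2, s9 w 3, s9 w 4, s9 w 6, s9 w 5, s9 w 7, evA (GL16 w) DW, GL16 w 8, GL16 w 1, GL16 w 9, GL16 w 11, GL16 w 10, GL16 w 2, GL16 w 3, GL16 w 5, GL16 w 6, GL16 w 13, GL16 w 14, GL16 w 0, GL16 w 4, GL16 w 7, GL16 w 12, GL16 w 15]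

theorem top16 {w : K} (hK : ∀ t : K, t = 0 ∨ t = 1 ∨ t = w ∨ t = w + 1) {A : Subgroup (twistedE6 K 2)}
    (h : ∀ k < 16, GL16 w k ∈ A) : A = ⊤ := by
  have k1 : ∀ r m, g1 K r m ∈ A → ∀ t : K, t ^ 2 = t → ∀ g : GL chevE6.Idx K,
      g.1 = chevE6.wordMat K [(r.1, t)] → g ∈ A.map (twistedE6 K 2).subtype := fun r m a t ht g e => by
    have e : g = ((goodE6.SG K).x r t).1 := Units.ext (by simpa [ChevalleyDatum.wordMat, goodE6.coe_SG_x] using e)
    obtain rfl | rfl : t = 0 ∨ t = 1 := by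
      rw [sq] at ht; exact (eq_zero_or_one_of_sq_eq_self (by rwa [sq])).imp id id
    · rw [e, PreSt.x_zero]; exact one_mem _
    · exact ⟨_, a, e.symm⟩
  have k2 : ∀ r s m, g2 r s 1 m ∈ A → g2 r s w m ∈ A → g2 r s (w + 1) m ∈ A → ∀ (t : K) (g : GL chevE6.Idx K),
      g.1 = chevE6.wordMat K [(r.1, t), (s.1, t ^ 2)] → g ∈ A.map (twistedE6 K 2).subtype := fun r s m a b c t g e => by
    have e : g = ((goodE6.SG K).x r t * (goodE6.SG K).x s (t ^ 2)).1 :=
      Units.ext (by simpa [ChevalleyDatum.wordMat, goodE6.coe_SG_x] using e)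
    rcases hK t with rfl | rfl | rfl | rfl
    · rw [e, zero_pow two_ne_zero, PreSt.x_zero, PreSt.x_zero, mul_one]; exact one_mem _
    exacts [⟨_, a, e.symm⟩, ⟨_, b, e.symm⟩, ⟨_, c, e.symm⟩]
  have : twistedE6 K 2 ≤ A.map (twistedE6 K 2).subtype := (Subgroup.closure_le _).2 (by
    rintro g ⟨_, ⟨t, ht, r, hr, rfl⟩ | ⟨t, r, hr, rfl⟩, e⟩ <;>
      simp only [List.mem_cons, List.not_mem_nil, or_false] at hr <;> rcases hr with rfl | rfl | rfl | rfl
    exacts [k1 46 (by decide) (h 0 (by decide)) t ht g e, k1 25 (by decide) (h 8 (by decide)) t ht g e,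
      k1 39 (by decide) (h 1 (by decide)) t ht g e, k1 32 (by decide) (h 9 (by decide)) t ht g e,
      k2 56 36 (by decide) (h 5 (by decide)) (h 6 (by decide)) (h 7 (by decide)) t g e,
      k2 15 35 (by decide) (h 13 (by decide)) (h 14 (by decide)) (h 15 (by decide)) t g e,
      k2 42 37 (by decide) (h 2 (by decide)) (h 3 (by decide)) (h 4 (by decide)) t g e,
      k2 29 34 (by decide) (h 10 (by decide)) (h 11 (by decide)) (h 12 (by decide)) t g e])
  refine top_le_iff.1 fun x _ => ?_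
  obtain ⟨y, a, b⟩ := this x.2
  exact (Subtype.ext b : y = x) ▸ a

section
variable [CharP K 2] {w : K} (hw : w * w = w + 1)
include hw

theorem hT : ∀ k < 26, ρ K (T w k) = mat2 IG w (nth (0, 0) TC k) := by
  obtain ⟨a, b⟩ := Nat.add_eq_zero_iff.1 dc
  have d : ρ K (evA (GL16 w) DW) = mat2 IG w cd := by
    rw [← ne2_zero b]; exact mat2_ev IG hw (e1_eq w) _ (hG hw) a
  intro k hk
  interval_cases k
  exacts [hS hw 8 (by decide), hS hw 0 (by decide), hS hw 1 (by decide), hS hw 2 (by decide), hS hw 3 (by decide), hS hw 4 (by decide), hS hw 6 (by decide), hS hw 5 (by decide), hS hw 7 (by decide), d, hG hw 8 (by decide), hG hw 1 (by decide), hG hw 9 (by decide), hG hw 11 (by decide), hG hw 10 (by decide), hG hw 2 (by decide), hG hw 3 (by decide), hG hw 5 (by decide), hG hw 6 (by decide), hG hw 13 (by decide), hG hw 14 (by decide), hG hw 0 (by decide), hG hw 4 (by decide), hG hw 7 (by decide), hG hw 12 (by decide), hG hw 15 (by decide)]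

theorem relT : Rels (T w) RF := fun W hW => by
  obtain ⟨a, b⟩ := Nat.add_eq_zero_iff.1 (H16.allL_sound rc W hW)
  exact ρ_inj (by rw [mat2_ev IG hw (e1_eq w) _ (fun k hk => hT hw k (hk.trans (by decide : 10 < 26))) a, ne2_zero b,
    e1_eq, map_one])

theorem memT (k : ℕ) (hk : k < 26) : T w k ∈ gen (T w) 10 := by
  induction k using Nat.strong_induction_on with
  | _ k ih =>
    by_cases l : k < 10
    · exact mem_gen _ l
    obtain ⟨i, rfl⟩ : ∃ i, k = 10 + i := ⟨k - 10, by omega⟩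
    obtain ⟨a, b⟩ := Nat.add_eq_zero_iff.1 (gc i (by omega))
    rw [← (ρ_inj (by rw [mat2_ev IG hw (e1_eq w) _ (fun j hj => hT hw j (hj.trans hk)) a, ne2_zero b, hT hw _ hk]) :
      evA (T w) (nth [] GW i) = T w (10 + i))]
    exact H16.evA_mem _ fun j hj => have := H16.ltAll_zero a j hj; ih j this (this.trans hk)

theorem topT (hK : ∀ t : K, t = 0 ∨ t = 1 ∨ t = w ∨ t = w + 1) : gen (T w) 10 = ⊤ := top16 hK fun k hk => by
  have := memT hw (10 + [11, 1, 5, 6, 12, 7, 8, 13, 0, 2, 4, 3, 14, 9, 10, 15].getD k 0) (by interval_cases k <;> decide)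
  interval_cases k <;> exact this

end

theorem card_E6 [Fintype K] (hK : Fintype.card K = 4) : Nat.card (twistedE6 K 2) = 76532479683774853939200 := by
  have := Agent.S1066.result (K := K) Nat.prime_two.isPrimePow hK
  norm_num at this
  omega

/-- recognition of `²E₆(2)` by the relations -/
theorem isoE {A : Type} [Group A] {g : ℕ → A} (r : Rels g RF) (t : gen g 10 = ⊤)
    (c : Nat.card A = 76532479683774853939200) : Nonempty (A ≃* twistedE6 H11.F4 2) :=
  have hw : om * om = om + 1 := by decide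
  have : CharP H11.F4 2 := charP_of_card_eq_prime_pow (f := 2) rfl
  ⟨(iso (re_of_rf r) (re_of_rf (relT hw)) t (topT hw (by decide)) c (card_E6 rfl)).choose⟩

end H15.TE
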