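import Cfsg.Agent.H15.TE.A

/-! Other words for the relators. Generated by tools/h15/te/glue_te.py. -/

set_option maxRecDepth 100000

namespace H15.TE

open H16 H16.DC H15.YB

noncomputable def RF : List (List ℕ) := [[nat_lit 0, nat_lit 0],
  [nat_lit 1, nat_lit 1],
  [nat_lit 2, nat_lit 2],
  [nat_lit 3, nat_lit 3],
  [nat_lit 4, nat_lit 4],
  [nat_lit 5, nat_lit 5],
  [nat_lit 6, nat_lit 6],
  [nat_lit 7, nat_lit 7],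
  [nat_lit 8, nat_lit 8],
  [nat_lit 9, nat_lit 9],
  [nat_lit 1, nat_lit 0, nat_lit 1, nat_lit 0, nat_lit 1, nat_lit 0],
  [nat_lit 2, nat_lit 0, nat_lit 2, nat_lit 0],
  [nat_lit 2, nat_lit 1, nat_lit 2, nat_lit 1, nat_lit 2, nat_lit 1],
  [nat_lit 3, nat_lit 0, nat_lit 3, nat_lit 0],
  [nat_lit 3, nat_lit 1, nat_lit 3, nat_lit 1],
  [nat_lit 3, nat_lit 2, nat_lit 3, nat_lit 2, nat_lit 3, nat_lit 2],
  [nat_lit 4, nat_lit 0, nat_lit 4, nat_lit 0],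
  [nat_lit 4, nat_lit 1, nat_lit 4, nat_lit 1],
  [nat_lit 4, nat_lit 2, nat_lit 4, nat_lit 2],
  [nat_lit 4, nat_lit 3, nat_lit 4, nat_lit 3, nat_lit 4, nat_lit 3],
  [nat_lit 5, nat_lit 0, nat_lit 5, nat_lit 0],
  [nat_lit 5, nat_lit 1, nat_lit 5, nat_lit 1],
  [nat_lit 5, nat_lit 2, nat_lit 5, nat_lit 2],
  [nat_lit 5, nat_lit 3, nat_lit 5, nat_lit 3],
  [nat_lit 5, nat_lit 4, nat_lit 5, nat_lit 4, nat_lit 5, nat_lit 4],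
  [nat_lit 6, nat_lit 0, nat_lit 6, nat_lit 0],
  [nat_lit 6, nat_lit 1, nat_lit 6, nat_lit 1],
  [nat_lit 6, nat_lit 2, nat_lit 6, nat_lit 2],
  [nat_lit 6, nat_lit 3, nat_lit 6, nat_lit 3],
  [nat_lit 6, nat_lit 4, nat_lit 6, nat_lit 4],
  [nat_lit 6, nat_lit 5, nat_lit 6, nat_lit 5, nat_lit 6, nat_lit 5],
  [nat_lit 7, nat_lit 0, nat_lit 7, nat_lit 0],
  [nat_lit 7, nat_lit 1, nat_lit 7, nat_lit 1],
  [nat_lit 7, nat_lit 2, nat_lit 7, nat_lit 2],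
  [nat_lit 7, nat_lit 3, nat_lit 7, nat_lit 3, nat_lit 7, nat_lit 3],
  [nat_lit 7, nat_lit 4, nat_lit 7, nat_lit 4],
  [nat_lit 7, nat_lit 5, nat_lit 7, nat_lit 5],
  [nat_lit 7, nat_lit 6, nat_lit 7, nat_lit 6],
  [nat_lit 8, nat_lit 0, nat_lit 8, nat_lit 0],
  [nat_lit 8, nat_lit 1, nat_lit 8, nat_lit 1],
  [nat_lit 8, nat_lit 2, nat_lit 8, nat_lit 2],
  [nat_lit 8, nat_lit 3, nat_lit 8, nat_lit 3],
  [nat_lit 8, nat_lit 4, nat_lit 8, nat_lit 4],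
  [nat_lit 8, nat_lit 5, nat_lit 8, nat_lit 5],
  [nat_lit 8, nat_lit 6, nat_lit 8, nat_lit 6],
  [nat_lit 8, nat_lit 7, nat_lit 8, nat_lit 7, nat_lit 8, nat_lit 7],
  [nat_lit 9, nat_lit 0, nat_lit 9, nat_lit 0],
  [nat_lit 9, nat_lit 1, nat_lit 9, nat_lit 1],
  [nat_lit 9, nat_lit 2, nat_lit 9, nat_lit 2],
  [nat_lit 9, nat_lit 3, nat_lit 9, nat_lit 3],
  [nat_lit 9, nat_lit 4, nat_lit 9, nat_lit 4],
  [nat_lit 9, nat_lit 5, nat_lit 9, nat_lit 5],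
  [nat_lit 9, nat_lit 6, nat_lit 9, nat_lit 6],
  [nat_lit 9, nat_lit 7, nat_lit 9, nat_lit 7],
  [nat_lit 9, nat_lit 8, nat_lit 9, nat_lit 8, nat_lit 9, nat_lit 8],
  [nat_lit 8, nat_lit 7, nat_lit 3, nat_lit 5, nat_lit 4, nat_lit 3, nat_lit 1, nat_lit 2, nat_lit 3, nat_lit 8, nat_lit 7, nat_lit 3, nat_lit 5, nat_lit 4, nat_lit 3, nat_lit 1, nat_lit 2, nat_lit 3, nat_lit 8, nat_lit 7, nat_lit 3, nat_lit 5, nat_lit 4, nat_lit 3, nat_lit 1, nat_lit 2, nat_lit 3, nat_lit 8, nat_lit 7, nat_lit 3, nat_lit 5, nat_lit 4, nat_lit 3, nat_lit 1, nat_lit 2, nat_lit 3, nat_lit 8, nat_lit 7, nat_lit 3, nat_lit 5, nat_lit 4, nat_lit 3, nat_lit 1, nat_lit 2, nat_lit 3, nat_lit 8, nat_lit 7, nat_lit 3, nat_lit 5, nat_lit 4, nat_lit 3, nat_lit 1, nat_lit 2, nat_lit 3, nat_lit 8, nat_lit 7, nat_lit 3, nat_lit 5, nat_lit 4, nat_lit 3, nat_lit 1, nat_lit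 2, nat_lit 3, nat_lit 8, nat_lit 7, nat_lit 3, nat_lit 5, nat_lit 4, nat_lit 3, nat_lit 1, nat_lit 2, nat_lit 3, nat_lit 8, nat_lit 7, nat_lit 3, nat_lit 5, nat_lit 4, nat_lit 3, nat_lit 1, nat_lit 2, nat_lit 3, nat_lit 8, nat_lit 7, nat_lit 3, nat_lit 5, nat_lit 4, nat_lit 3, nat_lit 1, nat_lit 2, nat_lit 3],
  [nat_lit 0, nat_lit 5, nat_lit 1, nat_lit 7, nat_lit 4, nat_lit 2, nat_lit 3, nat_lit 0, nat_lit 5, nat_lit 1, nat_lit 7, nat_lit 4, nat_lit 2, nat_lit 3, nat_lit 0, nat_lit 5, nat_lit 1, nat_lit 7, nat_lit 4, nat_lit 2, nat_lit 3, nat_lit 0, nat_lit 5, nat_lit 1, nat_lit 7, nat_lit 4, nat_lit 2, nat_lit 3, nat_lit 0, nat_lit 5, nat_lit 1, nat_lit 7, nat_lit 4, nat_lit 2, nat_lit 3, nat_lit 0, nat_lit 5, nat_lit 1, nat_lit 7, nat_lit 4, nat_lit 2, nat_lit 3, nat_lit 0, nat_lit 5, nat_lit 1, nat_lit 7, nat_lit 4, nat_lit 2,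 nat_lit 3, nat_lit 0, nat_lit 5, nat_lit 1, nat_lit 7, nat_lit 4, nat_lit 2, nat_lit 3, nat_lit 0, nat_lit 5, nat_lit 1, nat_lit 7, nat_lit 4, nat_lit 2, nat_lit 3],
  [nat_lit 6, nat_lit 1, nat_lit 5, nat_lit 7, nat_lit 2, nat_lit 4, nat_lit 3, nat_lit 6, nat_lit 1, nat_lit 5, nat_lit 7, nat_lit 2, nat_lit 4, nat_lit 3, nat_lit 6, nat_lit 1, nat_lit 5, nat_lit 7, nat_lit 2, nat_lit 4, nat_lit 3, nat_lit 6, nat_lit 1, nat_lit 5, nat_lit 7, nat_lit 2, nat_lit 4, nat_lit 3, nat_lit 6, nat_lit 1, nat_lit 5, nat_lit 7, nat_lit 2, nat_lit 4, nat_lit 3, nat_lit 6, nat_lit 1, nat_lit 5, nat_lit 7, nat_lit 2, nat_lit 4, nat_lit 3, nat_lit 6, nat_lit 1, nat_lit 5, nat_lit 7, nat_lit 2, nat_lit 4, nat_lit 3, nat_lit 6, nat_lit 1, nat_lit 5, nat_lit 7, nat_lit 2, nat_lit 4, nat_lit 3, nat_lit 6, nat_lit 1, nat_lit 5, nat_lit 7, nat_lit 2, nat_lit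 4, nat_lit 3],
  [nat_lit 6, nat_lit 8, nat_lit 5, nat_lit 2, nat_lit 7, nat_lit 4, nat_lit 3, nat_lit 6, nat_lit 8, nat_lit 5, nat_lit 2, nat_lit 7, nat_lit 4, nat_lit 3, nat_lit 6, nat_lit 8, nat_lit 5, nat_lit 2, nat_lit 7, nat_lit 4, nat_lit 3, nat_lit 6, nat_lit 8, nat_lit 5, nat_lit 2, nat_lit 7, nat_lit 4, nat_lit 3, nat_lit 6, nat_lit 8, nat_lit 5, nat_lit 2, nat_lit 7, nat_lit 4, nat_lit 3, nat_lit 6, nat_lit 8, nat_lit 5, nat_lit 2, nat_lit 7, nat_lit 4, nat_lit 3, nat_lit 6, nat_lit 8, nat_lit 5, nat_lit 2, nat_lit 7, nat_lit 4, nat_lit 3, nat_lit 6, nat_lit 8, nat_lit 5, nat_lit 2, nat_lit 7, nat_lit 4, nat_lit 3, nat_lit 6, nat_lit 8, nat_lit 5, nat_lit 2, nat_lit 7, nat_lit 4, nat_lit 3],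
  [nat_lit 9, nat_lit 5, nat_lit 8, nat_lit 2, nat_lit 4, nat_lit 7, nat_lit 3, nat_lit 9, nat_lit 5, nat_lit 8, nat_lit 2, nat_lit 4, nat_lit 7, nat_lit 3, nat_lit 9, nat_lit 5, nat_lit 8, nat_lit 2, nat_lit 4, nat_lit 7, nat_lit 3, nat_lit 9, nat_lit 5, nat_lit 8, nat_lit 2, nat_lit 4, nat_lit 7, nat_lit 3, nat_lit 9, nat_lit 5, nat_lit 8, nat_lit 2, nat_lit 4, nat_lit 7, nat_lit 3, nat_lit 9, nat_lit 5, nat_lit 8, nat_lit 2, nat_lit 4, nat_lit 7, nat_lit 3, nat_lit 9, nat_lit 5, nat_lit 8, nat_lit 2, nat_lit 4, nat_lit 7, nat_lit 3, nat_lit 9, nat_lit 5, nat_lit 8, nat_lit 2, nat_lit 4, nat_lit 7, nat_lit 3, nat_lit 9, nat_lit 5, nat_lit 8, nat_lit 2, nat_lit 4, nat_lit 7, nat_lit 3]]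

noncomputable def RT : List (List ℕ) := [[nat_lit 7, nat_lit 5, nat_lit 4, nat_lit 3, nat_lit 2, nat_lit 1, nat_lit 0, nat_lit 0, nat_lit 1, nat_lit 0, nat_lit 2, nat_lit 1, nat_lit 0, nat_lit 3, nat_lit 2, nat_lit 4, nat_lit 7, nat_lit 1, nat_lit 5, nat_lit 0, nat_lit 0, nat_lit 1, nat_lit 2, nat_lit 0, nat_lit 1, nat_lit 0],
  [nat_lit 7, nat_lit 6, nat_lit 5, nat_lit 4, nat_lit 3, nat_lit 2, nat_lit 1, nat_lit 1, nat_lit 2, nat_lit 1, nat_lit 3, nat_lit 4, nat_lit 2, nat_lit 7, nat_lit 5, nat_lit 1, nat_lit 6, nat_lit 1, nat_lit 2, nat_lit 1],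
  [nat_lit 1, nat_lit 2, nat_lit 3, nat_lit 5, nat_lit 4, nat_lit 3, nat_lit 8, nat_lit 7, nat_lit 3, nat_lit 3, nat_lit 7, nat_lit 3, nat_lit 4, nat_lit 3, nat_lit 2, nat_lit 3, nat_lit 8, nat_lit 7, nat_lit 3, nat_lit 5, nat_lit 4, nat_lit 3, nat_lit 1, nat_lit 2, nat_lit 3, nat_lit 3, nat_lit 2, nat_lit 3, nat_lit 4, nat_lit 3, nat_lit 7, nat_lit 3],
  [nat_lit 2, nat_lit 5, nat_lit 4, nat_lit 3, nat_lit 7, nat_lit 8, nat_lit 9, nat_lit 9, nat_lit 8, nat_lit 9, nat_lit 7, nat_lit 8, nat_lit 9, nat_lit 3, nat_lit 7, nat_lit 4, nat_lit 2, nat_lit 8, nat_lit 5, nat_lit 9, nat_lit 9, nat_lit 8, nat_lit 7, nat_lit 9, nat_lit 8, nat_lit 9],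
  [nat_lit 2, nat_lit 6, nat_lit 5, nat_lit 4, nat_lit 3, nat_lit 7, nat_lit 8, nat_lit 8, nat_lit 7, nat_lit 8, nat_lit 3, nat_lit 4, nat_lit 7, nat_lit 2, nat_lit 5, nat_lit 8, nat_lit 6, nat_lit 8, nat_lit 7, nat_lit 8]]

noncomputable def U10 : List (List ℕ) := [[nat_lit 0],
  [nat_lit 1],
  [nat_lit 2],
  [nat_lit 3],
  [nat_lit 4],
  [nat_lit 5],
  [nat_lit 6],
  [nat_lit 7],
  [nat_lit 8],
  [nat_lit 9]]

theorem sT : subW RF (nat_lit 10) U10 RT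
  [[([], (nat_lit 41)), ([], (nat_lit 73)), ([nat_lit 7, nat_lit 5, nat_lit 7], (nat_lit 63)), ([nat_lit 7, nat_lit 5, nat_lit 0, nat_lit 7], (nat_lit 65)), ([nat_lit 7, nat_lit 5, nat_lit 0, nat_lit 1, nat_lit 7], (nat_lit 43)), ([nat_lit 7, nat_lit 5, nat_lit 0, nat_lit 1, nat_lit 7], (nat_lit 63)), ([nat_lit 7, nat_lit 5, nat_lit 0, nat_lit 1, nat_lit 0, nat_lit 7], (nat_lit 41)), ([nat_lit 7, nat_lit 5], (nat_lit 33)), ([nat_lit 7, nat_lit 5, nat_lit 4, nat_lit 0, nat_lit 4], (nat_lit 35)), ([nat_lit 7, nat_lit 5, nat_lit 4, nat_lit 0, nat_lit 1, nat_lit 4], (nat_lit 33)), ([nat_lit 7, nat_lit 5, nat_lit 4, nat_lit 0, nat_lit 1, nat_lit 0, nat_lit 4], (nat_lit 37)), ([nat_lit 7, nat_lit 5, nat_lit 4, nat_lit 0, nat_lit 1, nat_lit 0, nat_lit 2, nat_lit 4], (nat_lit 67)), ([nat_lit 7, nat_lit 5, nat_lit 4, nat_lit 0, nat_lit 1,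 nat_lit 0, nat_lit 2, nat_lit 4, nat_lit 7], (nat_lit 45)), ([nat_lit 7, nat_lit 5, nat_lit 4], (nat_lit 27)), ([nat_lit 7, nat_lit 5, nat_lit 4, nat_lit 3, nat_lit 0, nat_lit 3], (nat_lit 29)), ([nat_lit 7, nat_lit 5, nat_lit 4, nat_lit 3, nat_lit 0, nat_lit 1, nat_lit 3], (nat_lit 27)), ([nat_lit 7, nat_lit 5, nat_lit 4, nat_lit 3, nat_lit 0, nat_lit 1, nat_lit 0, nat_lit 3, nat_lit 2, nat_lit 4, nat_lit 7, nat_lit 5], (nat_lit 43)), ([nat_lit 7, nat_lit 5, nat_lit 4, nat_lit 3], (nat_lit 23))],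
  [([], (nat_lit 53)), ([], (nat_lit 75)), ([nat_lit 7, nat_lit 6, nat_lit 7], (nat_lit 65)), ([nat_lit 7, nat_lit 6, nat_lit 1, nat_lit 7], (nat_lit 67)), ([nat_lit 7, nat_lit 6, nat_lit 1, nat_lit 2, nat_lit 7], (nat_lit 55)), ([nat_lit 7, nat_lit 6], (nat_lit 43)), ([nat_lit 7, nat_lit 6, nat_lit 5, nat_lit 1, nat_lit 5], (nat_lit 45)), ([nat_lit 7, nat_lit 6, nat_lit 5, nat_lit 1, nat_lit 2], (nat_lit 73)), ([nat_lit 7, nat_lit 6, nat_lit 5, nat_lit 1, nat_lit 2, nat_lit 7, nat_lit 5, nat_lit 6], (nat_lit 53)), ([nat_lit 7, nat_lit 6, nat_lit 5], (nat_lit 35)), ([nat_lit 7, nat_lit 6, nat_lit 5, nat_lit 4], (nat_lit 29))],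
  [([nat_lit 3], (nat_lit 29)), ([nat_lit 1, nat_lit 3], (nat_lit 65)), ([nat_lit 1], (nat_lit 47)), ([nat_lit 1, nat_lit 5, nat_lit 3], (nat_lit 73)), ([nat_lit 1, nat_lit 5, nat_lit 3, nat_lit 7, nat_lit 5], (nat_lit 47)), ([nat_lit 1, nat_lit 5, nat_lit 3, nat_lit 7, nat_lit 3, nat_lit 5, nat_lit 3], (nat_lit 29)), ([nat_lit 1, nat_lit 5], (nat_lit 83)), ([nat_lit 1, nat_lit 5], (nat_lit 45)), ([nat_lit 1, nat_lit 2, nat_lit 5], (nat_lit 81)), ([nat_lit 1, nat_lit 2, nat_lit 5], (nat_lit 47)), ([nat_lit 1, nat_lit 2, nat_lit 3, nat_lit 5], (nat_lit 83)), ([nat_lit 1, nat_lit 2, nat_lit 3, nat_lit 5, nat_lit 8, nat_lit 3, nat_lit 2, nat_lit 3, nat_lit 8, nat_lit 7, nat_lit 3, nat_lit 5], (nat_lit 35)), ([nat_lit 1, nat_lit 2, nat_lit 3, nat_lit 5, nat_lit 8, nat_lit 3, nat_lit 2, nat_lit 3, nat_lit 8, nat_lit 7, nat_lit 3, nat_lit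 5, nat_lit 4], (nat_lit 29)), ([nat_lit 1, nat_lit 2, nat_lit 3, nat_lit 5, nat_lit 8], (nat_lit 85)), ([nat_lit 1, nat_lit 2, nat_lit 3, nat_lit 5, nat_lit 4, nat_lit 8], (nat_lit 83))],
  [([nat_lit 9], (nat_lit 103)), ([nat_lit 5], (nat_lit 45)), ([nat_lit 2, nat_lit 5], (nat_lit 97)), ([nat_lit 2, nat_lit 5, nat_lit 9], (nat_lit 81)), ([nat_lit 2, nat_lit 5, nat_lit 9, nat_lit 8, nat_lit 2, nat_lit 8], (nat_lit 87)), ([nat_lit 2, nat_lit 5, nat_lit 9, nat_lit 8], (nat_lit 97)), ([nat_lit 2, nat_lit 5, nat_lit 9, nat_lit 8, nat_lit 9, nat_lit 2, nat_lit 9], (nat_lit 103)), ([nat_lit 2, nat_lit 5, nat_lit 9], (nat_lit 101)), ([nat_lit 2, nat_lit 5, nat_lit 4, nat_lit 9], (nat_lit 85)), ([nat_lit 2, nat_lit 5, nat_lit 4, nat_lit 9, nat_lit 8], (nat_lit 101)), ([nat_lit 2, nat_lit 5, nat_lit 4, nat_lit 9, nat_lit 8, nat_lit 9], (nat_lit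 71)), ([nat_lit 2, nat_lit 5, nat_lit 4, nat_lit 9, nat_lit 8, nat_lit 9, nat_lit 7, nat_lit 4, nat_lit 7], (nat_lit 67)), ([nat_lit 2, nat_lit 5, nat_lit 4, nat_lit 9, nat_lit 8, nat_lit 9, nat_lit 7, nat_lit 4, nat_lit 2, nat_lit 7], (nat_lit 73)), ([nat_lit 2, nat_lit 5, nat_lit 4, nat_lit 9], (nat_lit 99)), ([nat_lit 2, nat_lit 5, nat_lit 4, nat_lit 3, nat_lit 9], (nat_lit 83)), ([nat_lit 2, nat_lit 5, nat_lit 4, nat_lit 3, nat_lit 9, nat_lit 8], (nat_lit 99)), ([nat_lit 2, nat_lit 5, nat_lit 4, nat_lit 3, nat_lit 9, nat_lit 8, nat_lit 9, nat_lit 3, nat_lit 7, nat_lit 4, nat_lit 2], (nat_lit 87)), ([nat_lit 2, nat_lit 5, nat_lit 4, nat_lit 3, nat_lit 9], (nat_lit 107))],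
  [([nat_lit 8], (nat_lit 89)), ([nat_lit 6], (nat_lit 55)), ([nat_lit 2, nat_lit 6], (nat_lit 81)), ([nat_lit 2, nat_lit 6, nat_lit 8], (nat_lit 67)), ([nat_lit 2, nat_lit 6, nat_lit 8, nat_lit 7, nat_lit 2, nat_lit 7], (nat_lit 75)), ([nat_lit 2, nat_lit 6, nat_lit 8], (nat_lit 87)), ([nat_lit 2, nat_lit 6, nat_lit 5, nat_lit 8], (nat_lit 73)), ([nat_lit 2, nat_lit 6, nat_lit 5, nat_lit 8, nat_lit 7, nat_lit 5], (nat_lit 45)), ([nat_lit 2, nat_lit 6, nat_lit 5, nat_lit 8, nat_lit 7, nat_lit 2, nat_lit 5], (nat_lit 89)), ([nat_lit 2, nat_lit 6, nat_lit 5, nat_lit 8], (nat_lit 85)), ([nat_lit 2, nat_lit 6, nat_lit 5, nat_lit 4, nat_lit 8], (nat_lit 83))]] = true := by decide +kernel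

theorem sF : subW (RF ++ RT) (nat_lit 10) U10 RE
  [[],
  [],
  [],
  [],
  [],
  [],
  [],
  [],
  [],
  [([], (nat_lit 21))],
  [([], (nat_lit 23))],
  [([], (nat_lit 25))],
  [([], (nat_lit 27))],
  [([], (nat_lit 29))],
  [([], (nat_lit 31))],
  [([], (nat_lit 33))],
  [([], (nat_lit 35))],
  [([], (nat_lit 37))],
  [([], (nat_lit 39))],
  [([], (nat_lit 41))],
  [([], (nat_lit 43))],
  [([], (nat_lit 45))],
  [([], (nat_lit 47))],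
  [([], (nat_lit 49))],
  [([], (nat_lit 51))],
  [([], (nat_lit 53))],
  [([], (nat_lit 55))],
  [([], (nat_lit 57))],
  [([], (nat_lit 59))],
  [([], (nat_lit 61))],
  [([], (nat_lit 63))],
  [([], (nat_lit 65))],
  [([], (nat_lit 67))],
  [([], (nat_lit 69))],
  [([], (nat_lit 71))],
  [([], (nat_lit 73))],
  [([], (nat_lit 75))],
  [([], (nat_lit 77))],
  [([], (nat_lit 79))],
  [([], (nat_lit 81))],
  [([], (nat_lit 83))],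
  [([], (nat_lit 85))],
  [([], (nat_lit 87))],
  [([], (nat_lit 89))],
  [([], (nat_lit 91))],
  [([], (nat_lit 111))],
  [([nat_lit 0, nat_lit 1, nat_lit 0, nat_lit 2, nat_lit 1, nat_lit 0], (nat_lit 113)), ([nat_lit 0, nat_lit 1, nat_lit 0, nat_lit 2, nat_lit 1, nat_lit 5, nat_lit 1, nat_lit 7, nat_lit 4, nat_lit 2, nat_lit 3, nat_lit 0, nat_lit 5, nat_lit 1, nat_lit 7, nat_lit 4, nat_lit 2, nat_lit 3, nat_lit 0, nat_lit 5, nat_lit 1, nat_lit 7, nat_lit 4, nat_lit 2, nat_lit 3, nat_lit 0, nat_lit 5, nat_lit 1, nat_lit 7, nat_lit 4, nat_lit 2, nat_lit 3, nat_lit 0, nat_lit 5, nat_lit 1, nat_lit 7, nat_lit 4, nat_lit 2, nat_lit 3, nat_lit 0, nat_lit 5, nat_lit 1, nat_lit 7, nat_lit 4, nat_lit 2, nat_lit 3, nat_lit 0, nat_lit 5, nat_lit 1, nat_lit 7, nat_lit 4, nat_lit 2, nat_lit 3, nat_lit 0, nat_lit 5, nat_lit 1, nat_lit 7, nat_lit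 4, nat_lit 2, nat_lit 3, nat_lit 0, nat_lit 1, nat_lit 2, nat_lit 0, nat_lit 1, nat_lit 0], (nat_lit 121)), ([nat_lit 0, nat_lit 1, nat_lit 0, nat_lit 2, nat_lit 1, nat_lit 5, nat_lit 1, nat_lit 7, nat_lit 4, nat_lit 2, nat_lit 3, nat_lit 0, nat_lit 5, nat_lit 1, nat_lit 7, nat_lit 4, nat_lit 2, nat_lit 3, nat_lit 0, nat_lit 5, nat_lit 1, nat_lit 7, nat_lit 4, nat_lit 2, nat_lit 3, nat_lit 0, nat_lit 5, nat_lit 1, nat_lit 7, nat_lit 4, nat_lit 2, nat_lit 3, nat_lit 0, nat_lit 5, nat_lit 1, nat_lit 7, nat_lit 4, nat_lit 2, nat_lit 3, nat_lit 0, nat_lit 5, nat_lit 1, nat_lit 7, nat_lit 4, nat_lit 2, nat_lit 3, nat_lit 0, nat_lit 5, nat_lit 1, nat_lit 7, nat_lit 4, nat_lit 2, nat_lit 3, nat_lit 0, nat_lit 1, nat_lit 2, nat_lit 0, nat_lit 1, nat_lit 0], (nat_lit 121)), ([nat_lit 0, nat_lit 1, nat_lit 0, nat_lit 2, nat_lit 1, nat_lit 5,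 nat_lit 1, nat_lit 7, nat_lit 4, nat_lit 2, nat_lit 3, nat_lit 0, nat_lit 5, nat_lit 1, nat_lit 7, nat_lit 4, nat_lit 2, nat_lit 3, nat_lit 0, nat_lit 5, nat_lit 1, nat_lit 7, nat_lit 4, nat_lit 2, nat_lit 3, nat_lit 0, nat_lit 5, nat_lit 1, nat_lit 7, nat_lit 4, nat_lit 2, nat_lit 3, nat_lit 0, nat_lit 5, nat_lit 1, nat_lit 7, nat_lit 4, nat_lit 2, nat_lit 3, nat_lit 0, nat_lit 5, nat_lit 1, nat_lit 7, nat_lit 4, nat_lit 2, nat_lit 3, nat_lit 0, nat_lit 1, nat_lit 2, nat_lit 0, nat_lit 1, nat_lit 0], (nat_lit 121)), ([nat_lit 0, nat_lit 1, nat_lit 0, nat_lit 2, nat_lit 1, nat_lit 5, nat_lit 1, nat_lit 7, nat_lit 4, nat_lit 2, nat_lit 3, nat_lit 0, nat_lit 5, nat_lit 1, nat_lit 7, nat_lit 4, nat_lit 2, nat_lit 3, nat_lit 0, nat_lit 5, nat_lit 1, nat_lit 7, nat_lit 4, nat_lit 2, nat_lit 3, nat_lit 0, nat_lit 5, nat_lit 1, nat_lit 7,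 nat_lit 4, nat_lit 2, nat_lit 3, nat_lit 0, nat_lit 5, nat_lit 1, nat_lit 7, nat_lit 4, nat_lit 2, nat_lit 3, nat_lit 0, nat_lit 1, nat_lit 2, nat_lit 0, nat_lit 1, nat_lit 0], (nat_lit 121)), ([nat_lit 0, nat_lit 1, nat_lit 0, nat_lit 2, nat_lit 1, nat_lit 5, nat_lit 1, nat_lit 7, nat_lit 4, nat_lit 2, nat_lit 3, nat_lit 0, nat_lit 5, nat_lit 1, nat_lit 7, nat_lit 4, nat_lit 2, nat_lit 3, nat_lit 0, nat_lit 5, nat_lit 1, nat_lit 7, nat_lit 4, nat_lit 2, nat_lit 3, nat_lit 0, nat_lit 5, nat_lit 1, nat_lit 7, nat_lit 4, nat_lit 2, nat_lit 3, nat_lit 0, nat_lit 1, nat_lit 2, nat_lit 0, nat_lit 1, nat_lit 0], (nat_lit 121)), ([nat_lit 0, nat_lit 1, nat_lit 0, nat_lit 2, nat_lit 1, nat_lit 5, nat_lit 1, nat_lit 7, nat_lit 4, nat_lit 2, nat_lit 3, nat_lit 0, nat_lit 5, nat_lit 1, nat_lit 7, nat_lit 4, nat_lit 2, nat_lit 3, nat_lit 0, nat_lit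 5, nat_lit 1, nat_lit 7, nat_lit 4, nat_lit 2, nat_lit 3, nat_lit 0, nat_lit 1, nat_lit 2, nat_lit 0, nat_lit 1, nat_lit 0], (nat_lit 121)), ([nat_lit 0, nat_lit 1, nat_lit 0, nat_lit 2, nat_lit 1, nat_lit 5, nat_lit 1, nat_lit 7, nat_lit 4, nat_lit 2, nat_lit 3, nat_lit 0, nat_lit 5, nat_lit 1, nat_lit 7, nat_lit 4, nat_lit 2, nat_lit 3, nat_lit 0, nat_lit 1, nat_lit 2, nat_lit 0, nat_lit 1, nat_lit 0], (nat_lit 121)), ([nat_lit 0, nat_lit 1, nat_lit 0, nat_lit 2, nat_lit 1, nat_lit 5, nat_lit 1, nat_lit 7, nat_lit 4, nat_lit 2, nat_lit 3, nat_lit 0, nat_lit 1, nat_lit 2, nat_lit 0, nat_lit 1, nat_lit 0], (nat_lit 121)), ([], (nat_lit 121))],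
  [([nat_lit 1, nat_lit 2, nat_lit 1], (nat_lit 115)), ([nat_lit 1, nat_lit 2, nat_lit 1, nat_lit 6, nat_lit 1, nat_lit 5, nat_lit 7, nat_lit 2, nat_lit 4, nat_lit 3, nat_lit 6, nat_lit 1, nat_lit 5, nat_lit 7, nat_lit 2, nat_lit 4, nat_lit 3, nat_lit 6, nat_lit 1, nat_lit 5, nat_lit 7, nat_lit 2, nat_lit 4, nat_lit 3, nat_lit 6, nat_lit 1, nat_lit 5, nat_lit 7, nat_lit 2, nat_lit 4, nat_lit 3, nat_lit 6, nat_lit 1, nat_lit 5, nat_lit 7, nat_lit 2, nat_lit 4, nat_lit 3, nat_lit 6, nat_lit 1, nat_lit 5, nat_lit 7, nat_lit 2, nat_lit 4, nat_lit 3, nat_lit 6, nat_lit 1, nat_lit 5, nat_lit 7, nat_lit 2, nat_lit 4, nat_lit 3, nat_lit 6, nat_lit 1, nat_lit 5, nat_lit 7, nat_lit 2, nat_lit 4, nat_lit 3, nat_lit 1, nat_lit 2, nat_lit 1], (nat_lit 123)), ([nat_lit 1, nat_lit 2, nat_lit 1, nat_lit 6, nat_lit 1, nat_lit 5, nat_lit 7, nat_lit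 2, nat_lit 4, nat_lit 3, nat_lit 6, nat_lit 1, nat_lit 5, nat_lit 7, nat_lit 2, nat_lit 4, nat_lit 3, nat_lit 6, nat_lit 1, nat_lit 5, nat_lit 7, nat_lit 2, nat_lit 4, nat_lit 3, nat_lit 6, nat_lit 1, nat_lit 5, nat_lit 7, nat_lit 2, nat_lit 4, nat_lit 3, nat_lit 6, nat_lit 1, nat_lit 5, nat_lit 7, nat_lit 2, nat_lit 4, nat_lit 3, nat_lit 6, nat_lit 1, nat_lit 5, nat_lit 7, nat_lit 2, nat_lit 4, nat_lit 3, nat_lit 6, nat_lit 1, nat_lit 5, nat_lit 7, nat_lit 2, nat_lit 4, nat_lit 3, nat_lit 1, nat_lit 2, nat_lit 1], (nat_lit 123)), ([nat_lit 1, nat_lit 2, nat_lit 1, nat_lit 6, nat_lit 1, nat_lit 5, nat_lit 7, nat_lit 2, nat_lit 4, nat_lit 3, nat_lit 6, nat_lit 1, nat_lit 5, nat_lit 7, nat_lit 2, nat_lit 4, nat_lit 3, nat_lit 6, nat_lit 1, nat_lit 5, nat_lit 7, nat_lit 2, nat_lit 4, nat_lit 3, nat_lit 6, nat_lit 1, nat_lit 5, nat_lit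 7, nat_lit 2, nat_lit 4, nat_lit 3, nat_lit 6, nat_lit 1, nat_lit 5, nat_lit 7, nat_lit 2, nat_lit 4, nat_lit 3, nat_lit 6, nat_lit 1, nat_lit 5, nat_lit 7, nat_lit 2, nat_lit 4, nat_lit 3, nat_lit 1, nat_lit 2, nat_lit 1], (nat_lit 123)), ([nat_lit 1, nat_lit 2, nat_lit 1, nat_lit 6, nat_lit 1, nat_lit 5, nat_lit 7, nat_lit 2, nat_lit 4, nat_lit 3, nat_lit 6, nat_lit 1, nat_lit 5, nat_lit 7, nat_lit 2, nat_lit 4, nat_lit 3, nat_lit 6, nat_lit 1, nat_lit 5, nat_lit 7, nat_lit 2, nat_lit 4, nat_lit 3, nat_lit 6, nat_lit 1, nat_lit 5, nat_lit 7, nat_lit 2, nat_lit 4, nat_lit 3, nat_lit 6, nat_lit 1, nat_lit 5, nat_lit 7, nat_lit 2, nat_lit 4, nat_lit 3, nat_lit 1, nat_lit 2, nat_lit 1], (nat_lit 123)), ([nat_lit 1, nat_lit 2, nat_lit 1, nat_lit 6, nat_lit 1, nat_lit 5, nat_lit 7, nat_lit 2, nat_lit 4, nat_lit 3, nat_lit 6, nat_lit 1,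 nat_lit 5, nat_lit 7, nat_lit 2, nat_lit 4, nat_lit 3, nat_lit 6, nat_lit 1, nat_lit 5, nat_lit 7, nat_lit 2, nat_lit 4, nat_lit 3, nat_lit 6, nat_lit 1, nat_lit 5, nat_lit 7, nat_lit 2, nat_lit 4, nat_lit 3, nat_lit 1, nat_lit 2, nat_lit 1], (nat_lit 123)), ([nat_lit 1, nat_lit 2, nat_lit 1, nat_lit 6, nat_lit 1, nat_lit 5, nat_lit 7, nat_lit 2, nat_lit 4, nat_lit 3, nat_lit 6, nat_lit 1, nat_lit 5, nat_lit 7, nat_lit 2, nat_lit 4, nat_lit 3, nat_lit 6, nat_lit 1, nat_lit 5, nat_lit 7, nat_lit 2, nat_lit 4, nat_lit 3, nat_lit 1, nat_lit 2, nat_lit 1], (nat_lit 123)), ([nat_lit 1, nat_lit 2, nat_lit 1, nat_lit 6, nat_lit 1, nat_lit 5, nat_lit 7, nat_lit 2, nat_lit 4, nat_lit 3, nat_lit 6, nat_lit 1, nat_lit 5, nat_lit 7, nat_lit 2, nat_lit 4, nat_lit 3, nat_lit 1, nat_lit 2, nat_lit 1], (nat_lit 123)), ([nat_lit 1, nat_lit 2, nat_lit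 1, nat_lit 6, nat_lit 1, nat_lit 5, nat_lit 7, nat_lit 2, nat_lit 4, nat_lit 3, nat_lit 1, nat_lit 2, nat_lit 1], (nat_lit 123)), ([], (nat_lit 123))],
  [],
  [],
  [],
  [],
  [],
  [],
  [],
  [],
  [],
  [([nat_lit 9], (nat_lit 109))],
  [([nat_lit 9], (nat_lit 107))],
  [([nat_lit 8], (nat_lit 91))],
  [([nat_lit 9], (nat_lit 99))],
  [([nat_lit 8], (nat_lit 83))],
  [([nat_lit 7], (nat_lit 69))],
  [([nat_lit 9], (nat_lit 101))],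
  [([nat_lit 8], (nat_lit 85))],
  [([nat_lit 7], (nat_lit 71))],
  [([], (nat_lit 39))],
  [([nat_lit 9], (nat_lit 103))],
  [([nat_lit 8], (nat_lit 87))],
  [([nat_lit 7], (nat_lit 73))],
  [([], (nat_lit 47))],
  [([], (nat_lit 49))],
  [([nat_lit 9], (nat_lit 105))],
  [([nat_lit 8], (nat_lit 89))],
  [([nat_lit 7], (nat_lit 75))],
  [([], (nat_lit 57))],
  [([], (nat_lit 59))],
  [([], (nat_lit 61))],
  [([nat_lit 9], (nat_lit 97))],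
  [([nat_lit 8], (nat_lit 81))],
  [([nat_lit 7], (nat_lit 67))],
  [([nat_lit 3], (nat_lit 31))],
  [([nat_lit 4], (nat_lit 37))],
  [([nat_lit 5], (nat_lit 45))],
  [([nat_lit 6], (nat_lit 55))],
  [([nat_lit 9], (nat_lit 95))],
  [([nat_lit 8], (nat_lit 79))],
  [([nat_lit 7], (nat_lit 65))],
  [([nat_lit 3], (nat_lit 29))],
  [([nat_lit 4], (nat_lit 35))],
  [([nat_lit 5], (nat_lit 43))],
  [([nat_lit 6], (nat_lit 53))],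
  [([nat_lit 2], (nat_lit 25))],
  [([nat_lit 3, nat_lit 7, nat_lit 3, nat_lit 4, nat_lit 3, nat_lit 2, nat_lit 3], (nat_lit 110)), ([nat_lit 3, nat_lit 7, nat_lit 3, nat_lit 4, nat_lit 3, nat_lit 1, nat_lit 3, nat_lit 4, nat_lit 5, nat_lit 3, nat_lit 7, nat_lit 8, nat_lit 3, nat_lit 2, nat_lit 1, nat_lit 3, nat_lit 4, nat_lit 5, nat_lit 3, nat_lit 7, nat_lit 8, nat_lit 3, nat_lit 2, nat_lit 1, nat_lit 3, nat_lit 4, nat_lit 5, nat_lit 3, nat_lit 7, nat_lit 8, nat_lit 3, nat_lit 2, nat_lit 1, nat_lit 3, nat_lit 4, nat_lit 5, nat_lit 3, nat_lit 7, nat_lit 8, nat_lit 3, nat_lit 2, nat_lit 1, nat_lit 3, nat_lit 4, nat_lit 5, nat_lit 3, nat_lit 7, nat_lit 8, nat_lit 3, nat_lit 2, nat_lit 1, nat_lit 3, nat_lit 4, nat_lit 5, nat_lit 3, nat_lit 7, nat_lit 8, nat_lit 3, nat_lit 2, nat_lit 1, nat_lit 3, nat_lit 4, nat_lit 5, nat_lit 3, nat_lit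 7, nat_lit 8, nat_lit 3, nat_lit 2, nat_lit 1, nat_lit 3, nat_lit 4, nat_lit 5, nat_lit 3, nat_lit 7, nat_lit 8, nat_lit 3, nat_lit 2, nat_lit 1, nat_lit 3, nat_lit 4, nat_lit 5, nat_lit 3, nat_lit 7, nat_lit 8, nat_lit 3, nat_lit 2, nat_lit 3, nat_lit 4, nat_lit 3, nat_lit 7, nat_lit 3], (nat_lit 125)), ([nat_lit 3, nat_lit 7, nat_lit 3, nat_lit 4, nat_lit 3, nat_lit 1, nat_lit 3, nat_lit 4, nat_lit 5, nat_lit 3, nat_lit 7, nat_lit 8, nat_lit 3, nat_lit 2, nat_lit 1, nat_lit 3, nat_lit 4, nat_lit 5, nat_lit 3, nat_lit 7, nat_lit 8, nat_lit 3, nat_lit 2, nat_lit 1, nat_lit 3, nat_lit 4, nat_lit 5, nat_lit 3, nat_lit 7, nat_lit 8, nat_lit 3, nat_lit 2, nat_lit 1, nat_lit 3, nat_lit 4, nat_lit 5, nat_lit 3, nat_lit 7, nat_lit 8, nat_lit 3, nat_lit 2, nat_lit 1, nat_lit 3, nat_lit 4, nat_lit 5, nat_lit 3, nat_lit 7, nat_lit 8, nat_lit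 3, nat_lit 2, nat_lit 1, nat_lit 3, nat_lit 4, nat_lit 5, nat_lit 3, nat_lit 7, nat_lit 8, nat_lit 3, nat_lit 2, nat_lit 1, nat_lit 3, nat_lit 4, nat_lit 5, nat_lit 3, nat_lit 7, nat_lit 8, nat_lit 3, nat_lit 2, nat_lit 1, nat_lit 3, nat_lit 4, nat_lit 5, nat_lit 3, nat_lit 7, nat_lit 8, nat_lit 3, nat_lit 2, nat_lit 3, nat_lit 4, nat_lit 3, nat_lit 7, nat_lit 3], (nat_lit 125)), ([nat_lit 3, nat_lit 7, nat_lit 3, nat_lit 4, nat_lit 3, nat_lit 1, nat_lit 3, nat_lit 4, nat_lit 5, nat_lit 3, nat_lit 7, nat_lit 8, nat_lit 3, nat_lit 2, nat_lit 1, nat_lit 3, nat_lit 4, nat_lit 5, nat_lit 3, nat_lit 7, nat_lit 8, nat_lit 3, nat_lit 2, nat_lit 1, nat_lit 3, nat_lit 4, nat_lit 5, nat_lit 3, nat_lit 7, nat_lit 8, nat_lit 3, nat_lit 2, nat_lit 1, nat_lit 3, nat_lit 4, nat_lit 5, nat_lit 3, nat_lit 7, nat_lit 8, nat_lit 3, nat_lit 2, nat_lit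 1, nat_lit 3, nat_lit 4, nat_lit 5, nat_lit 3, nat_lit 7, nat_lit 8, nat_lit 3, nat_lit 2, nat_lit 1, nat_lit 3, nat_lit 4, nat_lit 5, nat_lit 3, nat_lit 7, nat_lit 8, nat_lit 3, nat_lit 2, nat_lit 1, nat_lit 3, nat_lit 4, nat_lit 5, nat_lit 3, nat_lit 7, nat_lit 8, nat_lit 3, nat_lit 2, nat_lit 3, nat_lit 4, nat_lit 3, nat_lit 7, nat_lit 3], (nat_lit 125)), ([nat_lit 3, nat_lit 7, nat_lit 3, nat_lit 4, nat_lit 3, nat_lit 1, nat_lit 3, nat_lit 4, nat_lit 5, nat_lit 3, nat_lit 7, nat_lit 8, nat_lit 3, nat_lit 2, nat_lit 1, nat_lit 3, nat_lit 4, nat_lit 5, nat_lit 3, nat_lit 7, nat_lit 8, nat_lit 3, nat_lit 2, nat_lit 1, nat_lit 3, nat_lit 4, nat_lit 5, nat_lit 3, nat_lit 7, nat_lit 8, nat_lit 3, nat_lit 2, nat_lit 1, nat_lit 3, nat_lit 4, nat_lit 5, nat_lit 3, nat_lit 7, nat_lit 8, nat_lit 3, nat_lit 2, nat_lit 1, nat_lit 3, nat_lit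 4, nat_lit 5, nat_lit 3, nat_lit 7, nat_lit 8, nat_lit 3, nat_lit 2, nat_lit 1, nat_lit 3, nat_lit 4, nat_lit 5, nat_lit 3, nat_lit 7, nat_lit 8, nat_lit 3, nat_lit 2, nat_lit 3, nat_lit 4, nat_lit 3, nat_lit 7, nat_lit 3], (nat_lit 125)), ([nat_lit 3, nat_lit 7, nat_lit 3, nat_lit 4, nat_lit 3, nat_lit 1, nat_lit 3, nat_lit 4, nat_lit 5, nat_lit 3, nat_lit 7, nat_lit 8, nat_lit 3, nat_lit 2, nat_lit 1, nat_lit 3, nat_lit 4, nat_lit 5, nat_lit 3, nat_lit 7, nat_lit 8, nat_lit 3, nat_lit 2, nat_lit 1, nat_lit 3, nat_lit 4, nat_lit 5, nat_lit 3, nat_lit 7, nat_lit 8, nat_lit 3, nat_lit 2, nat_lit 1, nat_lit 3, nat_lit 4, nat_lit 5, nat_lit 3, nat_lit 7, nat_lit 8, nat_lit 3, nat_lit 2, nat_lit 1, nat_lit 3, nat_lit 4, nat_lit 5, nat_lit 3, nat_lit 7, nat_lit 8, nat_lit 3, nat_lit 2, nat_lit 3, nat_lit 4, nat_lit 3, nat_lit 7, nat_lit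 3], (nat_lit 125)), ([nat_lit 3, nat_lit 7, nat_lit 3, nat_lit 4, nat_lit 3, nat_lit 1, nat_lit 3, nat_lit 4, nat_lit 5, nat_lit 3, nat_lit 7, nat_lit 8, nat_lit 3, nat_lit 2, nat_lit 1, nat_lit 3, nat_lit 4, nat_lit 5, nat_lit 3, nat_lit 7, nat_lit 8, nat_lit 3, nat_lit 2, nat_lit 1, nat_lit 3, nat_lit 4, nat_lit 5, nat_lit 3, nat_lit 7, nat_lit 8, nat_lit 3, nat_lit 2, nat_lit 1, nat_lit 3, nat_lit 4, nat_lit 5, nat_lit 3, nat_lit 7, nat_lit 8, nat_lit 3, nat_lit 2, nat_lit 3, nat_lit 4, nat_lit 3, nat_lit 7, nat_lit 3], (nat_lit 125)), ([nat_lit 3, nat_lit 7, nat_lit 3, nat_lit 4, nat_lit 3, nat_lit 1, nat_lit 3, nat_lit 4, nat_lit 5, nat_lit 3, nat_lit 7, nat_lit 8, nat_lit 3, nat_lit 2, nat_lit 1, nat_lit 3, nat_lit 4, nat_lit 5, nat_lit 3, nat_lit 7, nat_lit 8, nat_lit 3, nat_lit 2, nat_lit 1, nat_lit 3, nat_lit 4, nat_lit 5,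 nat_lit 3, nat_lit 7, nat_lit 8, nat_lit 3, nat_lit 2, nat_lit 3, nat_lit 4, nat_lit 3, nat_lit 7, nat_lit 3], (nat_lit 125)), ([nat_lit 3, nat_lit 7, nat_lit 3, nat_lit 4, nat_lit 3, nat_lit 1, nat_lit 3, nat_lit 4, nat_lit 5, nat_lit 3, nat_lit 7, nat_lit 8, nat_lit 3, nat_lit 2, nat_lit 1, nat_lit 3, nat_lit 4, nat_lit 5, nat_lit 3, nat_lit 7, nat_lit 8, nat_lit 3, nat_lit 2, nat_lit 3, nat_lit 4, nat_lit 3, nat_lit 7, nat_lit 3], (nat_lit 125)), ([nat_lit 3, nat_lit 7, nat_lit 3, nat_lit 4, nat_lit 3, nat_lit 1, nat_lit 3, nat_lit 4, nat_lit 5, nat_lit 3, nat_lit 7, nat_lit 8, nat_lit 3, nat_lit 2, nat_lit 3, nat_lit 4, nat_lit 3, nat_lit 7, nat_lit 3], (nat_lit 125)), ([], (nat_lit 125))],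
  [([nat_lit 9, nat_lit 8, nat_lit 9, nat_lit 7, nat_lit 8, nat_lit 9], (nat_lit 119)), ([nat_lit 9, nat_lit 8, nat_lit 9, nat_lit 7, nat_lit 8, nat_lit 5, nat_lit 8, nat_lit 2, nat_lit 4, nat_lit 7, nat_lit 3, nat_lit 9, nat_lit 5, nat_lit 8, nat_lit 2, nat_lit 4, nat_lit 7, nat_lit 3, nat_lit 9, nat_lit 5, nat_lit 8, nat_lit 2, nat_lit 4, nat_lit 7, nat_lit 3, nat_lit 9, nat_lit 5, nat_lit 8, nat_lit 2, nat_lit 4, nat_lit 7, nat_lit 3, nat_lit 9, nat_lit 5, nat_lit 8, nat_lit 2, nat_lit 4, nat_lit 7, nat_lit 3, nat_lit 9, nat_lit 5, nat_lit 8, nat_lit 2, nat_lit 4, nat_lit 7, nat_lit 3, nat_lit 9, nat_lit 5, nat_lit 8, nat_lit 2, nat_lit 4, nat_lit 7, nat_lit 3, nat_lit 9, nat_lit 5, nat_lit 8, nat_lit 2, nat_lit 4, nat_lit 7, nat_lit 3, nat_lit 9, nat_lit 8, nat_lit 7, nat_lit 9, nat_lit 8, nat_lit 9], (nat_lit 127)), ([nat_lit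 9, nat_lit 8, nat_lit 9, nat_lit 7, nat_lit 8, nat_lit 5, nat_lit 8, nat_lit 2, nat_lit 4, nat_lit 7, nat_lit 3, nat_lit 9, nat_lit 5, nat_lit 8, nat_lit 2, nat_lit 4, nat_lit 7, nat_lit 3, nat_lit 9, nat_lit 5, nat_lit 8, nat_lit 2, nat_lit 4, nat_lit 7, nat_lit 3, nat_lit 9, nat_lit 5, nat_lit 8, nat_lit 2, nat_lit 4, nat_lit 7, nat_lit 3, nat_lit 9, nat_lit 5, nat_lit 8, nat_lit 2, nat_lit 4, nat_lit 7, nat_lit 3, nat_lit 9, nat_lit 5, nat_lit 8, nat_lit 2, nat_lit 4, nat_lit 7, nat_lit 3, nat_lit 9, nat_lit 5, nat_lit 8, nat_lit 2, nat_lit 4, nat_lit 7, nat_lit 3, nat_lit 9, nat_lit 8, nat_lit 7, nat_lit 9, nat_lit 8, nat_lit 9], (nat_lit 127)), ([nat_lit 9, nat_lit 8, nat_lit 9, nat_lit 7, nat_lit 8, nat_lit 5, nat_lit 8, nat_lit 2, nat_lit 4, nat_lit 7, nat_lit 3, nat_lit 9, nat_lit 5, nat_lit 8, nat_lit 2, nat_lit 4, nat_lit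 7, nat_lit 3, nat_lit 9, nat_lit 5, nat_lit 8, nat_lit 2, nat_lit 4, nat_lit 7, nat_lit 3, nat_lit 9, nat_lit 5, nat_lit 8, nat_lit 2, nat_lit 4, nat_lit 7, nat_lit 3, nat_lit 9, nat_lit 5, nat_lit 8, nat_lit 2, nat_lit 4, nat_lit 7, nat_lit 3, nat_lit 9, nat_lit 5, nat_lit 8, nat_lit 2, nat_lit 4, nat_lit 7, nat_lit 3, nat_lit 9, nat_lit 8, nat_lit 7, nat_lit 9, nat_lit 8, nat_lit 9], (nat_lit 127)), ([nat_lit 9, nat_lit 8, nat_lit 9, nat_lit 7, nat_lit 8, nat_lit 5, nat_lit 8, nat_lit 2, nat_lit 4, nat_lit 7, nat_lit 3, nat_lit 9, nat_lit 5, nat_lit 8, nat_lit 2, nat_lit 4, nat_lit 7, nat_lit 3, nat_lit 9, nat_lit 5, nat_lit 8, nat_lit 2, nat_lit 4, nat_lit 7, nat_lit 3, nat_lit 9, nat_lit 5, nat_lit 8, nat_lit 2, nat_lit 4, nat_lit 7, nat_lit 3, nat_lit 9, nat_lit 5, nat_lit 8, nat_lit 2, nat_lit 4, nat_lit 7, nat_lit 3, nat_lit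 9, nat_lit 8, nat_lit 7, nat_lit 9, nat_lit 8, nat_lit 9], (nat_lit 127)), ([nat_lit 9, nat_lit 8, nat_lit 9, nat_lit 7, nat_lit 8, nat_lit 5, nat_lit 8, nat_lit 2, nat_lit 4, nat_lit 7, nat_lit 3, nat_lit 9, nat_lit 5, nat_lit 8, nat_lit 2, nat_lit 4, nat_lit 7, nat_lit 3, nat_lit 9, nat_lit 5, nat_lit 8, nat_lit 2, nat_lit 4, nat_lit 7, nat_lit 3, nat_lit 9, nat_lit 5, nat_lit 8, nat_lit 2, nat_lit 4, nat_lit 7, nat_lit 3, nat_lit 9, nat_lit 8, nat_lit 7, nat_lit 9, nat_lit 8, nat_lit 9], (nat_lit 127)), ([nat_lit 9, nat_lit 8, nat_lit 9, nat_lit 7, nat_lit 8, nat_lit 5, nat_lit 8, nat_lit 2, nat_lit 4, nat_lit 7, nat_lit 3, nat_lit 9, nat_lit 5, nat_lit 8, nat_lit 2, nat_lit 4, nat_lit 7, nat_lit 3, nat_lit 9, nat_lit 5, nat_lit 8, nat_lit 2, nat_lit 4, nat_lit 7, nat_lit 3, nat_lit 9, nat_lit 8, nat_lit 7, nat_lit 9, nat_lit 8,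 nat_lit 9], (nat_lit 127)), ([nat_lit 9, nat_lit 8, nat_lit 9, nat_lit 7, nat_lit 8, nat_lit 5, nat_lit 8, nat_lit 2, nat_lit 4, nat_lit 7, nat_lit 3, nat_lit 9, nat_lit 5, nat_lit 8, nat_lit 2, nat_lit 4, nat_lit 7, nat_lit 3, nat_lit 9, nat_lit 8, nat_lit 7, nat_lit 9, nat_lit 8, nat_lit 9], (nat_lit 127)), ([nat_lit 9, nat_lit 8, nat_lit 9, nat_lit 7, nat_lit 8, nat_lit 5, nat_lit 8, nat_lit 2, nat_lit 4, nat_lit 7, nat_lit 3, nat_lit 9, nat_lit 8, nat_lit 7, nat_lit 9, nat_lit 8, nat_lit 9], (nat_lit 127)), ([], (nat_lit 127))],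
  [([nat_lit 8, nat_lit 7, nat_lit 8], (nat_lit 117)), ([nat_lit 8, nat_lit 7, nat_lit 8, nat_lit 6, nat_lit 8, nat_lit 5, nat_lit 2, nat_lit 7, nat_lit 4, nat_lit 3, nat_lit 6, nat_lit 8, nat_lit 5, nat_lit 2, nat_lit 7, nat_lit 4, nat_lit 3, nat_lit 6, nat_lit 8, nat_lit 5, nat_lit 2, nat_lit 7, nat_lit 4, nat_lit 3, nat_lit 6, nat_lit 8, nat_lit 5, nat_lit 2, nat_lit 7, nat_lit 4, nat_lit 3, nat_lit 6, nat_lit 8, nat_lit 5, nat_lit 2, nat_lit 7, nat_lit 4, nat_lit 3, nat_lit 6, nat_lit 8, nat_lit 5, nat_lit 2, nat_lit 7, nat_lit 4, nat_lit 3, nat_lit 6, nat_lit 8, nat_lit 5, nat_lit 2, nat_lit 7, nat_lit 4, nat_lit 3, nat_lit 6, nat_lit 8, nat_lit 5, nat_lit 2, nat_lit 7, nat_lit 4, nat_lit 3, nat_lit 8, nat_lit 7, nat_lit 8], (nat_lit 129)), ([nat_lit 8, nat_lit 7, nat_lit 8, nat_lit 6, nat_lit 8, nat_lit 5, nat_lit 2, nat_lit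 7, nat_lit 4, nat_lit 3, nat_lit 6, nat_lit 8, nat_lit 5, nat_lit 2, nat_lit 7, nat_lit 4, nat_lit 3, nat_lit 6, nat_lit 8, nat_lit 5, nat_lit 2, nat_lit 7, nat_lit 4, nat_lit 3, nat_lit 6, nat_lit 8, nat_lit 5, nat_lit 2, nat_lit 7, nat_lit 4, nat_lit 3, nat_lit 6, nat_lit 8, nat_lit 5, nat_lit 2, nat_lit 7, nat_lit 4, nat_lit 3, nat_lit 6, nat_lit 8, nat_lit 5, nat_lit 2, nat_lit 7, nat_lit 4, nat_lit 3, nat_lit 6, nat_lit 8, nat_lit 5, nat_lit 2, nat_lit 7, nat_lit 4, nat_lit 3, nat_lit 8, nat_lit 7, nat_lit 8], (nat_lit 129)), ([nat_lit 8, nat_lit 7, nat_lit 8, nat_lit 6, nat_lit 8, nat_lit 5, nat_lit 2, nat_lit 7, nat_lit 4, nat_lit 3, nat_lit 6, nat_lit 8, nat_lit 5, nat_lit 2, nat_lit 7, nat_lit 4, nat_lit 3, nat_lit 6, nat_lit 8, nat_lit 5, nat_lit 2, nat_lit 7, nat_lit 4, nat_lit 3, nat_lit 6, nat_lit 8, nat_lit 5, nat_lit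 2, nat_lit 7, nat_lit 4, nat_lit 3, nat_lit 6, nat_lit 8, nat_lit 5, nat_lit 2, nat_lit 7, nat_lit 4, nat_lit 3, nat_lit 6, nat_lit 8, nat_lit 5, nat_lit 2, nat_lit 7, nat_lit 4, nat_lit 3, nat_lit 8, nat_lit 7, nat_lit 8], (nat_lit 129)), ([nat_lit 8, nat_lit 7, nat_lit 8, nat_lit 6, nat_lit 8, nat_lit 5, nat_lit 2, nat_lit 7, nat_lit 4, nat_lit 3, nat_lit 6, nat_lit 8, nat_lit 5, nat_lit 2, nat_lit 7, nat_lit 4, nat_lit 3, nat_lit 6, nat_lit 8, nat_lit 5, nat_lit 2, nat_lit 7, nat_lit 4, nat_lit 3, nat_lit 6, nat_lit 8, nat_lit 5, nat_lit 2, nat_lit 7, nat_lit 4, nat_lit 3, nat_lit 6, nat_lit 8, nat_lit 5, nat_lit 2, nat_lit 7, nat_lit 4, nat_lit 3, nat_lit 8, nat_lit 7, nat_lit 8], (nat_lit 129)), ([nat_lit 8, nat_lit 7, nat_lit 8, nat_lit 6, nat_lit 8, nat_lit 5, nat_lit 2, nat_lit 7, nat_lit 4, nat_lit 3, nat_lit 6, nat_lit 8,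 nat_lit 5, nat_lit 2, nat_lit 7, nat_lit 4, nat_lit 3, nat_lit 6, nat_lit 8, nat_lit 5, nat_lit 2, nat_lit 7, nat_lit 4, nat_lit 3, nat_lit 6, nat_lit 8, nat_lit 5, nat_lit 2, nat_lit 7, nat_lit 4, nat_lit 3, nat_lit 8, nat_lit 7, nat_lit 8], (nat_lit 129)), ([nat_lit 8, nat_lit 7, nat_lit 8, nat_lit 6, nat_lit 8, nat_lit 5, nat_lit 2, nat_lit 7, nat_lit 4, nat_lit 3, nat_lit 6, nat_lit 8, nat_lit 5, nat_lit 2, nat_lit 7, nat_lit 4, nat_lit 3, nat_lit 6, nat_lit 8, nat_lit 5, nat_lit 2, nat_lit 7, nat_lit 4, nat_lit 3, nat_lit 8, nat_lit 7, nat_lit 8], (nat_lit 129)), ([nat_lit 8, nat_lit 7, nat_lit 8, nat_lit 6, nat_lit 8, nat_lit 5, nat_lit 2, nat_lit 7, nat_lit 4, nat_lit 3, nat_lit 6, nat_lit 8, nat_lit 5, nat_lit 2, nat_lit 7, nat_lit 4, nat_lit 3, nat_lit 8, nat_lit 7, nat_lit 8], (nat_lit 129)), ([nat_lit 8, nat_lit 7, nat_lit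 8, nat_lit 6, nat_lit 8, nat_lit 5, nat_lit 2, nat_lit 7, nat_lit 4, nat_lit 3, nat_lit 8, nat_lit 7, nat_lit 8], (nat_lit 129)), ([], (nat_lit 129))],
  [([], (nat_lit 93))]] = true := by decide +kernel

theorem rels_U10 {G : Type*} [Group G] {g : ℕ → G} {R : List (List ℕ)} (h : Rels (wds g U10) R)
    (e : allL (ltAll 10) R = true) : Rels g R :=
  rels_hom (φ := MonoidHom.id G) (fun k hk => by interval_cases k <;> simp [wds, U10]) h e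

theorem re_of_rf {G : Type*} [Group G] {g : ℕ → G} (h : Rels g RF) : Rels g RE :=
  rels_U10 ((h.append (rels_U10 (h.subW sT) (by decide +kernel))).subW sF) RE_lt

end H15.TE
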